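import Cfsg.Agent.H43.InvSub.Stmts
import Cfsg.Agent.H43.InvSub.Basic
import Cfsg.Agent.H65.BaerSuzuki

/-!
A minimal counterexample without failing pairs would give a finite tree without end vertices.
-/

set_option autoImplicit false
set_option linter.style.haveILetI false

namespace H70.InvSub

open Cfsg Cfsg.Comp H43.InvSub Subgroup
open scoped Pointwise

universe u

variable {G : Type u} [Group G]

/-- Conjugate of a set. -/
def cj (g : G) (Φ : Set G) : Set G := (fun x => g * x * g⁻¹) '' Φ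

theorem mem_cj {g x : G} {Φ : Set G} : x ∈ cj g Φ ↔ g⁻¹ * x * g ∈ Φ := by
  refine ⟨?_, fun h => ⟨g⁻¹ * x * g, h, by group⟩⟩
  rintro ⟨y, hy, rfl⟩
  simpa [mul_assoc] using hy

theorem mem_map_conj {g x : G} {P : Subgroup G} :
    x ∈ P.map (MulAut.conj g).toMonoidHom ↔ g⁻¹ * x * g ∈ P := by
  refine ⟨?_, fun h => ⟨g⁻¹ * x * g, h, ?_⟩⟩
  · rintro ⟨y, hy, rfl⟩
    simpa [mul_assoc] using hy
  · show g * (g⁻¹ * x * g) * g⁻¹ = x
    group

theorem map_conj_conj (g h : G) (P : Subgroup G) :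
    (P.map (MulAut.conj h).toMonoidHom).map (MulAut.conj g).toMonoidHom
      = P.map (MulAut.conj (g * h)).toMonoidHom := by
  ext x
  simp only [mem_map_conj]
  rw [show h⁻¹ * (g⁻¹ * x * g) * h = (g * h)⁻¹ * x * (g * h) by group]

theorem mem_normalizer_of_map_eq {g : G} {P : Subgroup G}
    (h : P.map (MulAut.conj g).toMonoidHom = P) : g ∈ normalizer (P : Set G) :=
  Cfsg.Comp.mem_normalizer_of_map_conj_eq h

theorem conj_mem_cj_iff {g x : G} {Φ : Set G} : g * x * g⁻¹ ∈ cj g Φ ↔ x ∈ Φ := by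
  rw [mem_cj, show g⁻¹ * (g * x * g⁻¹) * g = x by group]

variable (S : Sys G)

/-- The cells. -/
def IsCell (a : Subgroup G) : Prop := ∃ d ∈ S.K, S.M d = a

/-- The members of the class attached to `a`. -/
def cell (a : Subgroup G) : Set G := {d | d ∈ S.K ∧ S.M d = a}

/-- A maximal 2-subgroup of `a`. -/
def MaxTwo (a P : Subgroup G) : Prop :=
  IsPGroup 2 P ∧ P ≤ a ∧ ∀ Q : Subgroup G, IsPGroup 2 Q → Q ≤ a → P ≤ Q → Q ≤ P

/-- The traces of the maximal 2-subgroups on the class. -/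
def Psi (a : Subgroup G) : Set (Set G) :=
  {Φ | ∃ P : Subgroup G, MaxTwo a P ∧ Φ = (P : Set G) ∩ S.K}

theorem conj_K_iff {g x : G} : g * x * g⁻¹ ∈ S.K ↔ x ∈ S.K := by
  refine ⟨fun h => ?_, fun h => S.conj_mem x h g⟩
  have := S.conj_mem _ h g⁻¹
  rwa [show g⁻¹ * (g * x * g⁻¹) * g⁻¹⁻¹ = x by group] at this

theorem isCell_conj {a : Subgroup G} (ha : IsCell S a) (g : G) :
    IsCell S (a.map (MulAut.conj g).toMonoidHom) := by
  obtain ⟨d, hd, rfl⟩ := ha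
  exact ⟨g * d * g⁻¹, S.conj_mem d hd g, S.conj_M d hd g⟩

theorem cell_normalizer {a : Subgroup G} (ha : IsCell S a) {g : G}
    (h : a.map (MulAut.conj g).toMonoidHom = a) : g ∈ a := by
  obtain ⟨d, hd, rfl⟩ := ha
  exact S.self_norm d hd ▸ mem_normalizer_of_map_eq h

theorem cell_trans {a b : Subgroup G} (ha : IsCell S a) (hb : IsCell S b) :
    ∃ g : G, a.map (MulAut.conj g).toMonoidHom = b := by
  obtain ⟨d, hd, rfl⟩ := ha
  obtain ⟨e, he, rfl⟩ := hb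
  obtain ⟨g, rfl⟩ := S.trans d hd e he
  exact ⟨g, (S.conj_M d hd g).symm⟩

theorem maxTwo_conj {a P : Subgroup G} (h : MaxTwo a P) (g : G) :
    MaxTwo (a.map (MulAut.conj g).toMonoidHom) (P.map (MulAut.conj g).toMonoidHom) := by
  refine ⟨h.1.map _, map_mono h.2.1, fun Q hQ hQa hPQ => ?_⟩
  have h1 : Q.map (MulAut.conj g⁻¹).toMonoidHom ≤ P := by
    refine h.2.2 _ (hQ.map _) ?_ ?_
    · intro x hx
      rw [mem_map_conj, inv_inv] at hx
      have := mem_map_conj.mp (hQa hx)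
      rwa [show g⁻¹ * (g * x * g⁻¹) * g = x by group] at this
    · intro x hx
      rw [mem_map_conj, inv_inv]
      exact hPQ (mem_map_conj.mpr (by rwa [show g⁻¹ * (g * x * g⁻¹) * g = x by group]))
  intro x hx
  rw [mem_map_conj]
  refine h1 ?_
  rw [mem_map_conj, inv_inv, show g * (g⁻¹ * x * g) * g⁻¹ = x by group]
  exact hx

theorem psi_conj {a : Subgroup G} {Φ : Set G} (h : Φ ∈ Psi S a) (g : G) :
    cj g Φ ∈ Psi S (a.map (MulAut.conj g).toMonoidHom) := by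
  obtain ⟨P, hP, rfl⟩ := h
  refine ⟨_, maxTwo_conj hP g, ?_⟩
  ext x
  simp only [mem_cj, Set.mem_inter_iff, SetLike.mem_coe, mem_map_conj]
  refine and_congr_right fun _ => ⟨fun hx => ?_, fun hx => ?_⟩
  · have := S.conj_mem _ hx g
    rwa [show g * (g⁻¹ * x * g) * g⁻¹ = x by group] at this
  · have := S.conj_mem x hx g⁻¹
    rwa [inv_inv] at this

variable [Finite G]

theorem exists_maxTwo {a R : Subgroup G} (hR : IsPGroup 2 R) (hRa : R ≤ a) :
    ∃ P, MaxTwo a P ∧ R ≤ P := by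
  obtain ⟨P, hP, hPm⟩ := ({P : Subgroup G | IsPGroup 2 P ∧ P ≤ a ∧ R ≤ P} : Set _).toFinite
    |>.exists_maximalFor (fun P => P) _ ⟨R, hR, hRa, le_rfl⟩
  exact ⟨P, ⟨hP.1, hP.2.1, fun Q hQ hQa hPQ => hPm ⟨hQ, hQa, hP.2.2.trans hPQ⟩ hPQ⟩, hP.2.2⟩

/-- A maximal 2-subgroup of `a` is a Sylow subgroup of `a`. -/
theorem exists_sylow_of_maxTwo {a P : Subgroup G} (h : MaxTwo a P) :
    ∃ T : Sylow 2 ↥a, (T : Subgroup ↥a) = P.subgroupOf a := by
  refine ⟨⟨P.subgroupOf a, h.1.of_equiv (subgroupOfEquivOfLe h.2.1).symm, fun {Q} hQ hPQ => ?_⟩, rfl⟩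
  refine le_antisymm (fun x hx => ?_) hPQ
  refine mem_subgroupOf.mpr (h.2.2 (Q.map a.subtype) (hQ.map _) (map_subtype_le _) ?_ ⟨x, hx, rfl⟩)
  intro y hy
  exact ⟨⟨y, h.2.1 hy⟩, hPQ (mem_subgroupOf.mpr hy), rfl⟩

theorem maxTwo_conjugate {a P P' : Subgroup G} (h : MaxTwo a P) (h' : MaxTwo a P') :
    ∃ g ∈ a, P.map (MulAut.conj g).toMonoidHom = P' := by
  haveI : Fact (Nat.Prime 2) := ⟨Nat.prime_two⟩
  obtain ⟨T, hT⟩ := exists_sylow_of_maxTwo h
  obtain ⟨T', hT'⟩ := exists_sylow_of_maxTwo h'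
  obtain ⟨g, hg⟩ := MulAction.exists_smul_eq ↥a T T'
  refine ⟨g, g.2, ?_⟩
  have key : ∀ x : ↥a, (x : G) ∈ P ↔ ((g * x * g⁻¹ : ↥a) : G) ∈ P' := by
    intro x
    rw [← mem_subgroupOf, ← mem_subgroupOf, ← hT, ← hT', ← hg]
    show x ∈ (T : Subgroup ↥a) ↔ g * x * g⁻¹ ∈ MulAut.conj g • (T : Subgroup ↥a)
    exact (Subgroup.smul_mem_pointwise_smul_iff (a := MulAut.conj g)).symm
  ext x
  rw [mem_map_conj]
  constructor
  · intro hx
    have := (key ⟨_, h.2.1 hx⟩).mp hx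
    simpa [mul_assoc] using this
  · intro hx
    have hxa : (g : G)⁻¹ * x * g ∈ a := mul_mem (mul_mem (inv_mem g.2) (h'.2.1 hx)) g.2
    refine (key ⟨_, hxa⟩).mpr ?_
    simpa [mul_assoc] using hx

theorem core_le_maxTwo {a P : Subgroup G} (h : MaxTwo a P) : pCoreOf 2 a ≤ P := by
  haveI : Fact (Nat.Prime 2) := ⟨Nat.prime_two⟩
  obtain ⟨T, hT⟩ := exists_sylow_of_maxTwo h
  haveI := pCore_normal 2 ↥a
  rintro _ ⟨x, hx, rfl⟩
  exact mem_subgroupOf.mp (hT ▸ (pCore_isPGroup (G := ↥a) 2).le_sylow_of_normal T hx)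

/-- Members of a Psi-set. -/
theorem psi_sub {a : Subgroup G} {Φ : Set G} (h : Φ ∈ Psi S a) : Φ ⊆ a ∩ S.K := by
  obtain ⟨P, hP, rfl⟩ := h
  exact fun x hx => ⟨hP.2.1 hx.1, hx.2⟩

/-! ### Cells meet in 2-power products -/

theorem cross (hNF : S.NoFail) : ∀ d ∈ S.K, ∀ f ∈ S.K, S.M d ≠ S.M f →
    ∃ k : ℕ, orderOf (d * f) = 2 ^ k := by
  suffices H : ∀ n, ∀ d ∈ S.K, ∀ f ∈ S.K, S.M d ≠ S.M f → orderOf (d * f) = n →
      ∃ k : ℕ, n = 2 ^ k from fun d hd f hf hne => H _ d hd f hf hne rfl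
  intro n
  induction n using Nat.strong_induction_on with
  | _ n ih =>
    intro d hd f hf hne hn
    have hdd : d * d = 1 := mul_self_of_orderOf_two (S.invol d hd)
    have hff : f * f = 1 := mul_self_of_orderOf_two (S.invol f hf)
    have hdi : d⁻¹ = d := inv_eq_of_mul_eq_one_right hdd
    have hfi : f⁻¹ = f := inv_eq_of_mul_eq_one_right hff
    have hinv : d * (d * f) * d⁻¹ = (d * f)⁻¹ := by
      rw [mul_inv_rev, hfi, hdi, ← mul_assoc d d f, hdd, one_mul]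
    have hn0 : n ≠ 0 := hn ▸ (orderOf_pos _).ne'
    rcases Nat.even_or_odd n with he | ho
    · by_cases hdf : d ∈ S.M f
      · obtain ⟨k, m, hm, hkm⟩ := Nat.exists_eq_two_pow_mul_odd hn0
        have hx : (d * f) ^ (2 ^ k) ∈ invSet d := by
          refine ⟨?_, by rw [← conj_pow, hinv, inv_pow]⟩
          rw [orderOf_pow_of_dvd (pow_ne_zero k two_ne_zero) (hn ▸ hkm ▸ dvd_mul_right _ _), hn,
            hkm, Nat.mul_div_cancel_left _ (Nat.two_pow_pos k)]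
          exact hm
        have hx1 := hNF d hd f hf hdf hne _ hx (pow_mem (mul_mem hdf (S.mem f hf)) _)
        obtain ⟨j, -, hj⟩ := (Nat.dvd_prime_pow Nat.prime_two).mp (orderOf_dvd_of_pow_eq_one hx1)
        exact ⟨j, hn ▸ hj⟩
      · have hf' : d * f * d⁻¹ ∈ S.K := S.conj_mem f hf d
        have hne' : S.M f ≠ S.M (d * f * d⁻¹) := by
          intro e
          rw [S.conj_M f hf d] at e
          exact hdf (cell_normalizer S ⟨f, hf, rfl⟩ e.symm)
        have hprod : f * (d * f * d⁻¹) = (f * d) ^ 2 := by rw [hdi, sq]; group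
        have hord : orderOf (f * d) = n := by
          rw [← hn, show f * d = (d * f)⁻¹ by rw [mul_inv_rev, hdi, hfi], orderOf_inv]
        have h2 : orderOf ((f * d) ^ 2) = n / 2 := by
          rw [orderOf_pow_of_dvd two_ne_zero (hord ▸ he.two_dvd), hord]
        obtain ⟨k, hk⟩ := ih (n / 2) (Nat.div_lt_self (Nat.pos_of_ne_zero hn0) one_lt_two) f hf _ hf'
          hne' (hprod ▸ h2)
        exact ⟨k + 1, by rw [pow_succ, ← hk, Nat.div_mul_cancel he.two_dvd]⟩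
    · exfalso
      have hz : d * f ∈ invSet d := ⟨hn ▸ ho, hinv⟩
      obtain ⟨z, hz1, -, hz2⟩ := exists_sqrt hz
      have hconj : z⁻¹ * d * z⁻¹⁻¹ = f := by
        have e2 : d * z = z⁻¹ * d := by
          have := hz1.2
          calc d * z = d * z * d⁻¹ * d := by group
            _ = z⁻¹ * d := by rw [this]
        have e3 : f = d * (z * z) := by rw [← hz2, ← mul_assoc, hdd, one_mul]
        rw [inv_inv, e3, ← mul_assoc, e2]
      refine hne ?_
      rw [← hconj, S.conj_M d hd z⁻¹]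
      symm
      have hzM : z⁻¹ ∈ S.M d := inv_mem (S.inv_le d hd hz1)
      ext x
      rw [mem_map_conj, inv_inv]
      constructor
      · intro hx
        have := mul_mem (mul_mem hzM hx) (inv_mem hzM)
        rwa [show z⁻¹ * (z * x * z⁻¹) * z⁻¹⁻¹ = x by group] at this
      · intro hx
        have := mul_mem (mul_mem (inv_mem hzM) hx) hzM
        rwa [inv_inv] at this

/-! ### The foreign members of the class in a cell -/

theorem foreign_core (hNF : S.NoFail) {a : Subgroup G} (ha : IsCell S a) {b : G} (hb : b ∈ S.K)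
    (hba : b ∈ a) (hne : S.M b ≠ a) : b ∈ pCoreOf 2 a := by
  obtain ⟨f, hf, rfl⟩ := ha
  by_contra hcon
  obtain ⟨h, h1, ho, hi⟩ := H65.exists_odd_inverted (t := (⟨b, hba⟩ : ↥(S.M f)))
    (by rw [Subgroup.orderOf_mk]; exact S.invol b hb) (fun h => hcon ⟨_, h, rfl⟩)
  have hx : (h : G) ∈ invSet b := (mem_invSet_subtype (t := (⟨b, hba⟩ : ↥(S.M f)))).mp ⟨ho, hi⟩
  exact h1 (Subtype.ext (hNF b hb f hf hba hne _ hx h.2))

/-- The trace of `Φ` on another cell does not depend on `Φ`. -/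
theorem psi_inter_cell (hNF : S.NoFail) {a y : Subgroup G} (ha : IsCell S a) (hy : y ≠ a)
    {Φ : Set G} (h : Φ ∈ Psi S a) : Φ ∩ cell S y = {b | b ∈ a ∧ b ∈ cell S y} := by
  obtain ⟨P, hP, rfl⟩ := h
  ext b
  constructor
  · exact fun hb => ⟨hP.2.1 hb.1.1, hb.2⟩
  · rintro ⟨hba, hb⟩
    refine ⟨⟨core_le_maxTwo hP (foreign_core S hNF ha hb.1 hba ?_), hb.1⟩, hb⟩
    rw [hb.2]
    exact hy

theorem psi_eq_of_inter_cell (hNF : S.NoFail) {a : Subgroup G} (ha : IsCell S a) {Φ Φ' : Set G}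
    (h : Φ ∈ Psi S a) (h' : Φ' ∈ Psi S a) (e : Φ ∩ cell S a = Φ' ∩ cell S a) : Φ = Φ' := by
  ext b
  by_cases hb : b ∈ S.K
  · by_cases hy : S.M b = a
    · have h1 : b ∈ Φ ∩ cell S a ↔ b ∈ Φ' ∩ cell S a := by rw [e]
      exact ⟨fun hh => (h1.mp ⟨hh, hb, hy⟩).1, fun hh => (h1.mpr ⟨hh, hb, hy⟩).1⟩
    · have e1 := psi_inter_cell S hNF ha hy h
      have e2 := psi_inter_cell S hNF ha hy h'
      have h1 : b ∈ Φ ∩ cell S (S.M b) ↔ b ∈ Φ' ∩ cell S (S.M b) := by rw [e1, e2]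
      exact ⟨fun hh => (h1.mp ⟨hh, hb, rfl⟩).1, fun hh => (h1.mpr ⟨hh, hb, rfl⟩).1⟩
  · exact ⟨fun hh => absurd (psi_sub S h hh).2 hb, fun hh => absurd (psi_sub S h' hh).2 hb⟩

theorem psi_two {a : Subgroup G} (ha : IsCell S a) {Φ : Set G} (hΦ : Φ ∈ Psi S a) :
    ∃ Φ' ∈ Psi S a, Φ' ≠ Φ := by
  by_contra hcon
  push Not at hcon
  haveI : Fact (Nat.Prime 2) := ⟨Nat.prime_two⟩
  obtain ⟨d, hd, rfl⟩ := ha
  obtain ⟨P, hP, hΦP⟩ := hΦ
  set N := Subgroup.closure Φ with hN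
  have hNP : N ≤ P := (closure_le _).mpr (hΦP ▸ Set.inter_subset_left)
  have hnorm : S.M d ≤ normalizer (N : Set G) := by
    intro g hg
    refine mem_normalizer_of_map_eq ?_
    rw [hN, MonoidHom.map_closure]
    congr 1
    have hmap : (S.M d).map (MulAut.conj g).toMonoidHom = S.M d := by
      ext x
      rw [mem_map_conj]
      refine ⟨fun hx => ?_, fun hx => mul_mem (mul_mem (inv_mem hg) hx) hg⟩
      have := mul_mem (mul_mem hg hx) (inv_mem hg)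
      rwa [show g * (g⁻¹ * x * g) * g⁻¹ = x by group] at this
    have := hcon (cj g Φ) (hmap ▸ psi_conj S ⟨P, hP, hΦP⟩ g)
    exact this
  have hNle : N ≤ pCoreOf 2 (S.M d) := by
    haveI := normal_subgroupOf_of_le_normalizer hnorm
    have hle : N.subgroupOf (S.M d) ≤ pCore 2 ↥(S.M d) := le_pCore inferInstance
      ((hP.1.to_le hNP).of_equiv (subgroupOfEquivOfLe (hNP.trans hP.2.1)).symm)
    intro x hx
    exact ⟨⟨x, hP.2.1 (hNP hx)⟩, hle (mem_subgroupOf.mpr hx), rfl⟩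
  have hdQ : d ∈ pCoreOf 2 (S.M d) := by
    obtain ⟨P', hP', hdP'⟩ := exists_maxTwo (a := S.M d) (R := zpowers d)
      (IsPGroup.of_card (n := 1) (by rw [Nat.card_zpowers, S.invol d hd, pow_one]))
      (zpowers_le.mpr (S.mem d hd))
    have := hcon _ ⟨P', hP', rfl⟩
    exact hNle (subset_closure (this ▸ ⟨hdP' (mem_zpowers d), hd⟩ : d ∈ Φ))
  obtain ⟨x, hx, hx1⟩ := S.inv_ne d hd
  apply hx1
  have hdi : d⁻¹ = d := inv_eq_self_of_orderOf_two (S.invol d hd)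
  have hxQ : x * x ∈ pCoreOf 2 (S.M d) := by
    obtain ⟨⟨d', hd'M⟩, hd'Q, hd'e⟩ := hdQ
    obtain rfl : d' = d := hd'e
    haveI := pCore_normal 2 ↥(S.M d')
    refine ⟨⟨x, S.inv_le _ hd hx⟩ * ⟨d', hd'M⟩ * ⟨x, S.inv_le _ hd hx⟩⁻¹ * ⟨d', hd'M⟩⁻¹,
      mul_mem (Normal.conj_mem inferInstance _ hd'Q _) (inv_mem hd'Q), ?_⟩
    show x * d' * x⁻¹ * d'⁻¹ = x * x
    have := congrArg (·⁻¹) hx.2
    simp only [mul_inv_rev, inv_inv] at this
    calc x * d' * x⁻¹ * d'⁻¹ = x * (d' * (x⁻¹ * d'⁻¹)) := by group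
      _ = x * x := by rw [this]
  obtain ⟨k, hk⟩ := IsPGroup.iff_card.mp ((pCore_isPGroup (G := ↥(S.M d)) 2).map (S.M d).subtype)
  have h2 : orderOf (x * x) ∣ 2 ^ k := hk ▸ Subgroup.orderOf_dvd_natCard _ hxQ
  have h3 : orderOf (x * x) = orderOf x := by
    rw [← sq, orderOf_pow, (Nat.coprime_two_right.mpr hx.1).gcd_eq_one, Nat.div_one]
  rw [h3] at h2
  exact orderOf_eq_one_iff.mp (Nat.eq_one_of_dvd_coprimes
    ((Nat.coprime_two_right.mpr hx.1).pow_right k) dvd_rfl h2)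

/-! ### Every trace has two centres -/

theorem two_centres (hNF : S.NoFail) {a : Subgroup G} (ha : IsCell S a) {Φ : Set G}
    (hΦ : Φ ∈ Psi S a) : ∃ b, IsCell S b ∧ b ≠ a ∧ Φ ∈ Psi S b := by
  by_contra hcon
  push Not at hcon
  haveI : Fact (Nat.Prime 2) := ⟨Nat.prime_two⟩
  -- then all traces have a unique centre
  have uniq : ∀ (a₁ a₂ : Subgroup G) (X : Set G), IsCell S a₁ → IsCell S a₂ →
      X ∈ Psi S a₁ → X ∈ Psi S a₂ → a₁ = a₂ := by
    intro a₁ a₂ X h1 h2 hX1 hX2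
    obtain ⟨g, hg⟩ := cell_trans S h1 ha
    obtain ⟨P, hP, hΦP⟩ := hΦ
    obtain ⟨P₁, hP₁, hX1'⟩ := hX1
    obtain ⟨k, hka, hk⟩ := maxTwo_conjugate (hg ▸ maxTwo_conj hP₁ g) hP
    rw [map_conj_conj] at hk
    have hXΦ : cj (k * g) X = Φ := by
      rw [hX1', hΦP]
      ext x
      simp only [mem_cj, Set.mem_inter_iff, SetLike.mem_coe]
      rw [← hk, mem_map_conj]
      refine and_congr_right fun _ => ⟨fun hx => ?_, fun hx => ?_⟩
      · have := S.conj_mem _ hx (k * g)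
        rwa [show k * g * ((k * g)⁻¹ * x * (k * g)) * (k * g)⁻¹ = x by group] at this
      · have := S.conj_mem x hx (k * g)⁻¹
        rwa [inv_inv] at this
    have ha1 : a₁.map (MulAut.conj (k * g)).toMonoidHom = a := by
      rw [← map_conj_conj, hg]
      ext x
      rw [mem_map_conj]
      refine ⟨fun hx => ?_, fun hx => mul_mem (mul_mem (inv_mem hka) hx) hka⟩
      have := mul_mem (mul_mem hka hx) (inv_mem hka)
      rwa [show k * (k⁻¹ * x * k) * k⁻¹ = x by group] at this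
    have h2' : a₂.map (MulAut.conj (k * g)).toMonoidHom = a := by
      by_contra hne
      exact hcon _ (isCell_conj S h2 (k * g)) hne (hXΦ ▸ psi_conj S hX2 (k * g))
    exact map_injective (MulAut.conj (k * g)).injective (ha1.trans h2'.symm)
  -- maximal 2-subgroups of cells are Sylow subgroups of `G`
  have hsyl : ∀ (c P : Subgroup G), IsCell S c → MaxTwo c P →
      ∀ Q : Subgroup G, IsPGroup 2 Q → P ≤ Q → Q ≤ P := by
    intro c P hc hP Q hQ hPQ
    by_contra hne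
    haveI := hQ.isNilpotent
    have hlt : P.subgroupOf Q < ⊤ := lt_top_iff_ne_top.mpr fun e =>
      hne fun x hx => mem_subgroupOf.mp (e ▸ mem_top (⟨x, hx⟩ : ↥Q))
    obtain ⟨⟨g, hgQ⟩, hgN, hgP⟩ := SetLike.exists_of_lt (Group.normalizerCondition_of_isNilpotent _ hlt)
    have hgN' : g ∈ normalizer (P : Set G) := by
      rw [mem_normalizer_iff]
      intro x
      constructor
      · intro hx
        exact mem_subgroupOf.mp ((mem_normalizer_iff.mp hgN ⟨x, hPQ hx⟩).mp (mem_subgroupOf.mpr hx))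
      · intro hx
        have hxQ : x ∈ Q := by
          have := mul_mem (mul_mem (inv_mem hgQ) (hPQ hx)) hgQ
          rwa [show g⁻¹ * (g * x * g⁻¹) * g = x by group] at this
        exact mem_subgroupOf.mp ((mem_normalizer_iff.mp hgN ⟨x, hxQ⟩).mpr (mem_subgroupOf.mpr hx))
    by_cases hgc : g ∈ c
    · refine hgP (mem_subgroupOf.mpr (hP.2.2 (P ⊔ zpowers g) ?_ ?_ le_sup_left
        (mem_sup_right (mem_zpowers g))))
      · exact hQ.to_le (sup_le hPQ (zpowers_le.mpr hgQ))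
      · exact sup_le hP.2.1 (zpowers_le.mpr hgc)
    · apply hgc
      have hfix : cj g ((P : Set G) ∩ S.K) = (P : Set G) ∩ S.K := by
        ext x
        have hiff : g⁻¹ * x * g ∈ P ↔ x ∈ P := by
          have := mem_normalizer_iff.mp hgN' (g⁻¹ * x * g)
          rwa [show g * (g⁻¹ * x * g) * g⁻¹ = x by group] at this
        simp only [mem_cj, Set.mem_inter_iff, SetLike.mem_coe, hiff]
        refine and_congr_right fun _ => ⟨fun hx => ?_, fun hx => ?_⟩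
        · have := S.conj_mem _ hx g
          rwa [show g * (g⁻¹ * x * g) * g⁻¹ = x by group] at this
        · have := S.conj_mem x hx g⁻¹
          rwa [inv_inv] at this
      exact cell_normalizer S hc (uniq _ _ _ (isCell_conj S hc g) hc
        (hfix ▸ psi_conj S ⟨P, hP, rfl⟩ g) ⟨P, hP, rfl⟩)
  -- every 2-subgroup lies in a maximal 2-subgroup of a cell
  have cover : ∀ R : Subgroup G, IsPGroup 2 R → ∃ c P, IsCell S c ∧ MaxTwo c P ∧ R ≤ P := by
    intro R hR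
    obtain ⟨P, hP, -⟩ := hΦ
    obtain ⟨T, hT⟩ := hR.exists_le_sylow
    let P' : Sylow 2 G := ⟨P, hP.1, fun hQ hPQ => le_antisymm (hsyl a P ha hP _ hQ hPQ) hPQ⟩
    obtain ⟨g, hg⟩ := MulAction.exists_smul_eq G P' T
    refine ⟨_, _, isCell_conj S ha g, maxTwo_conj hP g, fun x hx => ?_⟩
    have : x ∈ ((g • P' : Sylow 2 G) : Subgroup G) := hg ▸ hT hx
    exact this
  -- a second cell
  obtain ⟨c₀, hc₀, hc₀ne⟩ : ∃ c, IsCell S c ∧ a ≠ c := by
    by_contra hh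
    push Not at hh
    obtain ⟨d, hd, rfl⟩ := ha
    apply (S.coatom d hd).1
    refine eq_top_iff.mpr fun g _ => cell_normalizer S ⟨d, hd, rfl⟩ ?_
    exact (hh _ (isCell_conj S ⟨d, hd, rfl⟩ g)).symm
  obtain ⟨P₀, hP₀, -⟩ := exists_maxTwo (a := c₀) (R := ⊥) (IsPGroup.of_bot) bot_le
  -- a pair of traces with maximal intersection
  let T : Set (Set G × Set G) := {p | ∃ x y, IsCell S x ∧ IsCell S y ∧ x ≠ y ∧
    p.1 ∈ Psi S x ∧ p.2 ∈ Psi S y}
  obtain ⟨⟨Φ₁, Φ₂⟩, ⟨x, y, hx, hy, hxy, hΦ₁, hΦ₂⟩, hmax⟩ :=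
    T.toFinite.exists_maximalFor (fun p => (p.1 ∩ p.2).ncard) _
      ⟨(Φ, (P₀ : Set G) ∩ S.K), a, c₀, ha, hc₀, hc₀ne, hΦ, P₀, hP₀, rfl⟩
  have hmax' : ∀ x' y' (X Y : Set G), IsCell S x' → IsCell S y' → X ∈ Psi S x' → Y ∈ Psi S y' →
      (Φ₁ ∩ Φ₂).ncard < (X ∩ Y).ncard → x' = y' := by
    intro x' y' X Y h1 h2 h3 h4 hlt
    by_contra hne
    have := hmax (j := (X, Y)) ⟨x', y', h1, h2, hne, h3, h4⟩ hlt.le
    simp only at this
    omega
  -- elements normalising the intersection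
  have key : ∀ (x : Subgroup G) (X Y : Set G), IsCell S x → X ∈ Psi S x →
      (∃ y, IsCell S y ∧ Y ∈ Psi S y) → ¬ X ⊆ Y →
      ∃ P : Subgroup G, IsPGroup 2 P ∧ X = (P : Set G) ∩ S.K ∧
        ∃ d ∈ X, d ∉ Y ∧ d ∈ normalizer (closure (X ∩ Y) : Set G) := by
    intro x X Y hx hX hY hXY
    obtain ⟨P, hP, hXP⟩ := hX
    obtain ⟨z, hz, P', hP', hYP⟩ := hY
    refine ⟨P, hP.1, hXP, ?_⟩
    by_contra hnone
    push Not at hnone
    set I := closure (X ∩ Y) with hI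
    set J := closure X with hJ
    have hJP : J ≤ P := (closure_le _).mpr (hXP ▸ Set.inter_subset_left)
    haveI := (hP.1.to_le hJP).isNilpotent
    have hIJ : I ≤ J := closure_mono Set.inter_subset_left
    set N := normalizer (I : Set G) ⊓ J with hN
    have hNX : X ∩ (N : Set G) ⊆ Y := fun d hd => by
      by_contra hdY
      exact hnone d hd.1 hdY hd.2.1
    by_cases htop : J ≤ N
    · exact hXY fun d hd => hNX ⟨hd, htop (subset_closure hd)⟩
    · have hlt : N.subgroupOf J < ⊤ := lt_top_iff_ne_top.mpr fun e =>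
        htop fun w hw => mem_subgroupOf.mp (e ▸ mem_top (⟨w, hw⟩ : ↥J))
      obtain ⟨⟨g, hgJ⟩, hgN, hgn⟩ :=
        SetLike.exists_of_lt (Group.normalizerCondition_of_isNilpotent _ hlt)
      apply hgn
      refine mem_subgroupOf.mpr ⟨?_, hgJ⟩
      refine mem_normalizer_of_map_eq ?_
      rw [hI, MonoidHom.map_closure]
      congr 1
      have hXinv : ∀ g ∈ P, ∀ w : G, g * w * g⁻¹ ∈ X ↔ w ∈ X := by
        intro g hg w
        rw [hXP]
        simp only [Set.mem_inter_iff, SetLike.mem_coe, conj_K_iff S]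
        refine and_congr_left fun _ => ⟨fun h => ?_, fun h => mul_mem (mul_mem hg h) (inv_mem hg)⟩
        have := mul_mem (mul_mem (inv_mem hg) h) hg
        rwa [show g⁻¹ * (g * w * g⁻¹) * g = w by group] at this
      have hstab : ∀ g ∈ J, (∀ w, w ∈ N → g * w * g⁻¹ ∈ N) →
          ∀ w ∈ X ∩ Y, g * w * g⁻¹ ∈ X ∩ Y := by
        intro g hg hgN' w hw
        have hwN : w ∈ N := ⟨le_normalizer (subset_closure hw), subset_closure hw.1⟩
        have h1 := (hXinv g (hJP hg) w).mpr hw.1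
        exact ⟨h1, hNX ⟨h1, hgN' w hwN⟩⟩
      have hconjN : ∀ w, w ∈ N → g * w * g⁻¹ ∈ N := fun w hw =>
        mem_subgroupOf.mp ((mem_normalizer_iff.mp hgN ⟨w, hw.2⟩).mp (mem_subgroupOf.mpr hw))
      have hconjN' : ∀ w, w ∈ N → g⁻¹ * w * g⁻¹⁻¹ ∈ N := fun w hw => by
        have := (mem_normalizer_iff.mp ((normalizer _).inv_mem hgN) ⟨w, hw.2⟩).mp
          (mem_subgroupOf.mpr hw)
        exact mem_subgroupOf.mp this
      ext w
      constructor
      · rintro ⟨v, hv, rfl⟩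
        exact hstab g hgJ hconjN v hv
      · intro hw
        refine ⟨g⁻¹ * w * g⁻¹⁻¹, hstab g⁻¹ (inv_mem hgJ) hconjN' w hw, ?_⟩
        show g * (g⁻¹ * w * g⁻¹⁻¹) * g⁻¹ = w
        group
  have hcard : Φ₁.ncard = Φ₂.ncard := by
    obtain ⟨g, hg⟩ := cell_trans S hx hy
    obtain ⟨P₁, hP₁, e₁⟩ := hΦ₁
    obtain ⟨P₂, hP₂, e₂⟩ := hΦ₂
    obtain ⟨k, -, hk⟩ := maxTwo_conjugate (hg ▸ maxTwo_conj hP₁ g) hP₂
    rw [map_conj_conj] at hk
    have : cj (k * g) Φ₁ = Φ₂ := by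
      simp only at e₁ e₂
      rw [e₁, e₂, ← hk]
      ext w
      simp only [mem_cj, Set.mem_inter_iff, SetLike.mem_coe, mem_map_conj]
      refine and_congr_right fun _ => ⟨fun h => ?_, fun h => ?_⟩
      · have := S.conj_mem _ h (k * g)
        rwa [show k * g * ((k * g)⁻¹ * w * (k * g)) * (k * g)⁻¹ = w by group] at this
      · have := S.conj_mem w h (k * g)⁻¹
        rwa [inv_inv] at this
    rw [← this]
    exact (Set.ncard_image_of_injective _ fun u v h => by simpa using h).symm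
  have hne12 : Φ₁ ≠ Φ₂ := fun e => hxy (uniq x y Φ₁ hx hy hΦ₁ (e ▸ hΦ₂))
  have hn1 : ¬ Φ₁ ⊆ Φ₂ := fun h =>
    hne12 (Set.eq_of_subset_of_ncard_le h hcard.ge (Set.toFinite _))
  have hn2 : ¬ Φ₂ ⊆ Φ₁ := fun h =>
    hne12 (Set.eq_of_subset_of_ncard_le h hcard.le (Set.toFinite _)).symm
  obtain ⟨P₁, hP₁, eP₁, d₁, hd₁, hd₁', hd₁N⟩ := key x Φ₁ Φ₂ hx hΦ₁ ⟨y, hy, hΦ₂⟩ hn1
  obtain ⟨P₂, hP₂, eP₂, d₂, hd₂, hd₂', hd₂N⟩ := key y Φ₂ Φ₁ hy hΦ₂ ⟨x, hx, hΦ₁⟩ hn2
  rw [Set.inter_comm] at hd₂N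
  set C := Φ₁ ∩ Φ₂ with hC
  set I := closure C with hI
  have hI2 : IsPGroup 2 I :=
    hP₁.to_le ((closure_le _).mpr fun w hw => (eP₁ ▸ hw.1 : w ∈ (P₁ : Set G) ∩ S.K).1)
  have grow : ∀ (X : Set G) (z : Subgroup G) (e : G), IsCell S z → X ∈ Psi S z → C ⊆ X →
      e ∈ X → e ∉ C → ∀ R : Subgroup G, IsPGroup 2 R → C ⊆ R → e ∈ R →
      ∀ (c P : Subgroup G), IsCell S c → MaxTwo c P → R ≤ P → z = c := by
    intro X z e hz hX hCX heX heC R hR hCR heR c P hc hP hRP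
    refine hmax' z c X ((P : Set G) ∩ S.K) hz hc hX ⟨P, hP, rfl⟩ ?_
    refine lt_of_lt_of_le ?_ (Set.ncard_le_ncard (s := insert e C) ?_ (Set.toFinite _))
    · rw [Set.ncard_insert_of_notMem heC]
      exact Nat.lt_succ_self _
    · rw [Set.insert_subset_iff]
      exact ⟨⟨heX, hRP heR, (psi_sub S hX heX).2⟩,
        fun w hw => ⟨hCX hw, hRP (hCR hw), (psi_sub S hX (hCX hw)).2⟩⟩
  -- pairs of normalising elements are in one cell
  have hpair : ∀ u v : G, u ∈ Φ₁ → u ∉ Φ₂ → u ∈ normalizer (I : Set G) → v ∈ Φ₂ → v ∉ Φ₁ →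
      v ∈ normalizer (I : Set G) → S.M u = S.M v := by
    intro u v hu hu' huN hv hv' hvN
    by_contra hne
    have huK := (psi_sub S hΦ₁ hu).2
    have hvK := (psi_sub S hΦ₂ hv).2
    obtain ⟨k, hk⟩ := cross S hNF u huK v hvK hne
    have h2g : IsPGroup 2 (closure ({u, v} : Set G)) :=
      H65.isPGroup_closure_pair (S.invol u huK) (S.invol v hvK) (k := k)
        (hk ▸ dvd_rfl)
    have hUV : closure ({u, v} : Set G) ≤ normalizer (I : Set G) := by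
      rw [closure_le]
      rintro w (rfl | rfl)
      · exact huN
      · exact hvN
    have hR := h2g.to_sup_of_normal_right' hI2 hUV
    obtain ⟨c, P, hc, hP, hRP⟩ := cover _ hR
    have hCR : C ⊆ ((closure ({u, v} : Set G) ⊔ I : Subgroup G) : Set G) := fun w hw =>
      mem_sup_right (subset_closure hw)
    exact hxy ((grow Φ₁ x u hx hΦ₁ Set.inter_subset_left hu (fun h => hu' h.2) _ hR hCR
        (mem_sup_left (subset_closure (Set.mem_insert _ _))) c P hc hP hRP).trans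
      (grow Φ₂ y v hy hΦ₂ Set.inter_subset_right hv (fun h => hv' h.1) _ hR hCR
        (mem_sup_left (subset_closure (Set.mem_insert_of_mem _ rfl))) c P hc hP hRP).symm)
  have hd₁K := (psi_sub S hΦ₁ hd₁).2
  have hd₂K := (psi_sub S hΦ₂ hd₂).2
  set a₀ := S.M d₁ with ha₀
  have ha₂ : S.M d₂ = a₀ := (hpair d₁ d₂ hd₁ hd₁' hd₁N hd₂ hd₂' hd₂N).symm
  have hCa : ∀ i ∈ C, i ∈ a₀ := by
    intro i hi
    have hiN : i ∈ normalizer (I : Set G) := le_normalizer (subset_closure hi)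
    have hiP₁ : i ∈ P₁ := (eP₁ ▸ hi.1 : i ∈ (P₁ : Set G) ∩ S.K).1
    have hiP₂ : i ∈ P₂ := (eP₂ ▸ hi.2 : i ∈ (P₂ : Set G) ∩ S.K).1
    have h1 : i * d₁ * i⁻¹ ∈ Φ₁ := by
      rw [eP₁]
      exact ⟨mul_mem (mul_mem hiP₁ (eP₁ ▸ hd₁ : d₁ ∈ (P₁ : Set G) ∩ S.K).1) (inv_mem hiP₁),
        S.conj_mem _ hd₁K i⟩
    have h2 : i * d₁ * i⁻¹ ∉ Φ₂ := fun h => hd₁' (by
      rw [eP₂] at h ⊢
      refine ⟨?_, hd₁K⟩
      have := mul_mem (mul_mem (inv_mem hiP₂) h.1) hiP₂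
      rwa [show i⁻¹ * (i * d₁ * i⁻¹) * i = d₁ by group] at this)
    have h3 := hpair _ d₂ h1 h2 (mul_mem (mul_mem hiN hd₁N) (inv_mem hiN)) hd₂ hd₂' hd₂N
    rw [ha₂, S.conj_M d₁ hd₁K i] at h3
    exact cell_normalizer S ⟨d₁, hd₁K, rfl⟩ h3
  have hfin : ∀ (P : Subgroup G) (e : G), IsPGroup 2 P → e ∈ P → C ⊆ P → S.M e = a₀ → e ∈ S.K →
      ∃ Q, MaxTwo a₀ Q ∧ closure (insert e C) ≤ Q := by
    intro P e hP he hCP heM heK
    refine exists_maxTwo (hP.to_le ((closure_le _).mpr (Set.insert_subset_iff.mpr ⟨he, hCP⟩))) ?_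
    rw [closure_le, Set.insert_subset_iff]
    exact ⟨heM ▸ S.mem e heK, fun w hw => hCa w hw⟩
  have hC1 : C ⊆ (P₁ : Set G) := fun w hw => (eP₁ ▸ hw.1 : w ∈ (P₁ : Set G) ∩ S.K).1
  have hC2 : C ⊆ (P₂ : Set G) := fun w hw => (eP₂ ▸ hw.2 : w ∈ (P₂ : Set G) ∩ S.K).1
  obtain ⟨Q₁, hQ₁, hle₁⟩ := hfin P₁ d₁ hP₁ (eP₁ ▸ hd₁ : d₁ ∈ (P₁ : Set G) ∩ S.K).1 hC1 rfl hd₁K
  obtain ⟨Q₂, hQ₂, hle₂⟩ := hfin P₂ d₂ hP₂ (eP₂ ▸ hd₂ : d₂ ∈ (P₂ : Set G) ∩ S.K).1 hC2 ha₂ hd₂K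
  have hcell₀ : IsCell S a₀ := ⟨d₁, hd₁K, rfl⟩
  exact hxy ((grow Φ₁ x d₁ hx hΦ₁ Set.inter_subset_left hd₁ (fun h => hd₁' h.2) _
      (hQ₁.1.to_le hle₁) (fun w hw => subset_closure (Set.mem_insert_of_mem _ hw))
      (subset_closure (Set.mem_insert _ _)) a₀ Q₁ hcell₀ hQ₁ hle₁).trans
    (grow Φ₂ y d₂ hy hΦ₂ Set.inter_subset_right hd₂ (fun h => hd₂' h.1) _
      (hQ₂.1.to_le hle₂) (fun w hw => subset_closure (Set.mem_insert_of_mem _ hw))
      (subset_closure (Set.mem_insert _ _)) a₀ Q₂ hcell₀ hQ₂ hle₂).symm)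

/-! ### The walk -/

/-- An edge of the tree: a trace with two centres. -/
structure Edge where
  src : Subgroup G
  tgt : Subgroup G
  tr : Set G
  src_cell : IsCell S src
  tgt_cell : IsCell S tgt
  src_psi : tr ∈ Psi S src
  tgt_psi : tr ∈ Psi S tgt
  ne : tgt ≠ src

theorem no_tree (hNF : S.NoFail) : False := by
  haveI : Fact (Nat.Prime 2) := ⟨Nat.prime_two⟩
  obtain ⟨d₀, hd₀⟩ := S.nonempty
  obtain ⟨P, hP, -⟩ := exists_maxTwo (a := S.M d₀) (R := ⊥) IsPGroup.of_bot bot_le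
  obtain ⟨b, hb, hbne, hbΦ⟩ := two_centres S hNF ⟨d₀, hd₀, rfl⟩
    (Φ := (P : Set G) ∩ S.K) ⟨P, hP, rfl⟩
  have step : ∀ e : Edge S, ∃ e' : Edge S, e'.src = e.tgt ∧ e'.tr ≠ e.tr := by
    intro e
    obtain ⟨Φ, hΦ, hne⟩ := psi_two S e.tgt_cell e.tgt_psi
    obtain ⟨c, hc, hcne, hcΦ⟩ := two_centres S hNF e.tgt_cell hΦ
    exact ⟨⟨e.tgt, c, Φ, e.tgt_cell, hc, hΦ, hcΦ, hcne⟩, rfl, hne⟩
  choose nxt hsrc hne using step
  let w : ℕ → Edge S := fun n => Nat.rec ⟨S.M d₀, b, _, ⟨d₀, hd₀, rfl⟩, hb, ⟨P, hP, rfl⟩, hbΦ, hbne⟩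
    (fun _ e => nxt e) n
  have hsucc : ∀ n, (w (n + 1)).src = (w n).tgt := fun n => hsrc (w n)
  have htr : ∀ n, (w (n + 1)).tr ≠ (w n).tr := fun n => hne (w n)
  let A : ℕ → Subgroup G := fun n => (w n).src
  have hAne : ∀ n, A (n + 1) ≠ A n := fun n => by
    show (w (n + 1)).src ≠ (w n).src
    rw [hsucc n]
    exact (w n).ne
  have hex : ∃ m, 0 < m ∧ ∃ i, A i = A (i + m) := by
    obtain ⟨p, q, hpq, he⟩ := Finite.exists_ne_map_eq_of_infinite A
    rcases lt_or_gt_of_ne hpq with h | h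
    · exact ⟨q - p, by omega, p, by rw [Nat.add_sub_cancel' h.le]; exact he⟩
    · exact ⟨p - q, by omega, q, by rw [Nat.add_sub_cancel' h.le]; exact he.symm⟩
  classical
  obtain ⟨hm0, i, hi⟩ := Nat.find_spec hex
  set m := Nat.find hex with hm
  have hdist : ∀ p q, i ≤ p → p < q → q ≤ i + m → A p = A q → p = i ∧ q = i + m := by
    intro p q h1 h2 h3 h4
    by_contra hcon
    refine Nat.find_min hex (m := q - p) (by omega) ⟨by omega, p, ?_⟩
    rw [Nat.add_sub_cancel' h2.le]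
    exact h4
  have hm2 : 2 ≤ m := by
    by_contra hlt
    have h1 : m = 1 := by omega
    rw [h1] at hi
    exact hAne i hi.symm
  have htgt : ∀ n, (w n).tr ∈ Psi S (A (n + 1)) := fun n => by
    show (w n).tr ∈ Psi S (w (n + 1)).src
    rw [hsucc n]
    exact (w n).tgt_psi
  have hconst : ∀ (y : Subgroup G) (p q : ℕ), p ≤ q → (∀ k, p < k → k ≤ q → A k ≠ y) →
      (w p).tr ∩ cell S y = (w q).tr ∩ cell S y := by
    intro y p q hpq
    induction q, hpq using Nat.le_induction with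
    | base => intro _; rfl
    | succ q hpq ih =>
      intro hk
      rw [ih fun k h1 h2 => hk k h1 (by omega)]
      have hne' : y ≠ A (q + 1) := fun e => hk (q + 1) (by omega) le_rfl e.symm
      rw [psi_inter_cell S hNF (w (q + 1)).src_cell hne' (htgt q),
        psi_inter_cell S hNF (w (q + 1)).src_cell hne' (w (q + 1)).src_psi]
  have hlast : (w (i + m - 1)).tr ∈ Psi S (A i) := by
    rw [hi]
    have := htgt (i + m - 1)
    rwa [show i + m - 1 + 1 = i + m by omega] at this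
  have h1 : (w i).tr = (w (i + m - 1)).tr := by
    refine psi_eq_of_inter_cell S hNF (w i).src_cell (w i).src_psi hlast (hconst _ i _ (by omega) ?_)
    intro k hk1 hk2 he
    exact absurd (hdist i k le_rfl hk1 (by omega) he.symm).2 (by omega)
  rcases eq_or_lt_of_le hm2 with h2 | h3
  · apply htr i
    rw [h1, show i + m - 1 = i + 1 by omega]
  · apply htr i
    rw [psi_eq_of_inter_cell S hNF (w (i + 1)).src_cell (w (i + 1)).src_psi
      (h1 ▸ htgt i : (w (i + m - 1)).tr ∈ Psi S (A (i + 1))) (hconst _ (i + 1) _ (by omega) ?_), ← h1]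
    intro k hk1 hk2 he
    exact absurd (hdist (i + 1) k (by omega) hk1 (by omega) he.symm).1 (by omega)

/-- No system without failing pairs. -/
theorem tree : TreeStmt.{u} := fun S _ hNF => no_tree S hNF

end H70.InvSub
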